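import Groth.Agent.GrPullLib.Frac
import Groth.Agent.GrModLib6.Comap
import Groth.Agent.KFlatLib.AffinePull
import Groth.Agent.KFlatLib.QCohPull
import Groth.Agent.GrTildeLib.IsoCrit
import Mathlib.Algebra.Polynomial.Module.Basic

/-!
# Pulling back `M(n)~` along `Proj` of a graded map, for `N = B ⊗_A M`
-/

set_option autoImplicit false
set_option backward.isDefEq.respectTransparency false
set_option backward.isDefEq.respectTransparency.types false
universe u

open CategoryTheory CategoryTheory.Limits AlgebraicGeometry TopologicalSpace Opposite HomogeneousLocalization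
open scoped HomogeneousIdeal

noncomputable section

namespace GrPullLib

variable {B σ' : Type u} [CommRing B] [SetLike σ' B] [AddSubgroupClass σ' B] {ℬ : ℕ → σ'} [GradedRing ℬ]

/-- `b / g ^ a` for `b` of degree `a` -/
def fracHom {g : B} (hg : g ∈ ℬ 1) (a : ℕ) : ℬ a →+ Γ(Proj ℬ, Proj.basicOpen ℬ g) where
  toFun b := Proj.awayToSection ℬ g (Away.mk ℬ hg a (b : B) (by simp))
  map_zero' := by
    refine (congrArg (Proj.awayToSection ℬ g) (?_ : _ = (0 : Away ℬ g))).trans (map_zero (Proj.awayToSection ℬ g).hom)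
    apply HomogeneousLocalization.val_injective
    simp [Away.val_mk, Localization.mk_zero]
  map_add' b c := by
    refine (congrArg (Proj.awayToSection ℬ g) (?_ : _ = (_ + _ : Away ℬ g))).trans (map_add (Proj.awayToSection ℬ g).hom _ _)
    apply HomogeneousLocalization.val_injective
    simp [Away.val_mk, Localization.add_mk_self]

theorem fracHom_one {g : B} (hg : g ∈ ℬ 1) :
    fracHom hg 0 ⟨1, SetLike.GradedOne.one_mem⟩ = 1 := by
  refine (congrArg (Proj.awayToSection ℬ g) (?_ : _ = (1 : Away ℬ g))).trans (map_one (Proj.awayToSection ℬ g).hom)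
  apply HomogeneousLocalization.val_injective
  simp only [Away.val_mk, HomogeneousLocalization.val_one, pow_zero, ← Localization.mk_one]
  rfl

theorem fracHom_mul {g : B} (hg : g ∈ ℬ 1) {a c : ℕ} (b : ℬ a) (d : ℬ c) :
    fracHom hg (a + c) ⟨(b : B) * d, SetLike.mul_mem_graded b.2 d.2⟩ = fracHom hg a b * fracHom hg c d := by
  refine (congrArg (Proj.awayToSection ℬ g) (?_ : _ = (_ * _ : Away ℬ g))).trans (map_mul (Proj.awayToSection ℬ g).hom _ _)
  apply HomogeneousLocalization.val_injective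
  simp only [Away.val_mk, HomogeneousLocalization.val_mul, Localization.mk_mul]
  congr 1
  exact Subtype.ext (pow_add g a c)

open scoped Classical in
/-- `Σ b_a ↦ Σ (b_a / g ^ a) X ^ a` -/
def polyHom {g : B} (hg : g ∈ ℬ 1) : B →+* Polynomial Γ(Proj ℬ, Proj.basicOpen ℬ g) :=
  (DirectSum.toSemiring (fun a => (Polynomial.monomial a).toAddMonoidHom.comp (fracHom hg a))
    (by
      show Polynomial.monomial 0 (fracHom hg 0 ⟨1, SetLike.GradedOne.one_mem⟩) = 1
      rw [fracHom_one, Polynomial.monomial_zero_left, map_one])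
    (fun {a c} b d => by
      show Polynomial.monomial (a + c) (fracHom hg (a + c) ⟨(b : B) * d, SetLike.mul_mem_graded b.2 d.2⟩) =
        Polynomial.monomial a (fracHom hg a b) * Polynomial.monomial c (fracHom hg c d)
      rw [fracHom_mul, Polynomial.monomial_mul_monomial])).comp (DirectSum.decomposeRingEquiv ℬ).toRingHom

theorem polyHom_coe {g : B} (hg : g ∈ ℬ 1) {a : ℕ} {b : B} (hb : b ∈ ℬ a) :
    polyHom hg b = Polynomial.monomial a (fracHom hg a ⟨b, hb⟩) := by
  classical
  rw [polyHom, RingHom.comp_apply]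
  show DirectSum.toSemiring _ _ _ (DirectSum.decompose ℬ b) = _
  rw [DirectSum.decompose_of_mem ℬ hb, DirectSum.toSemiring_of]
  rfl

variable {A σ : Type u} [CommRing A] [SetLike σ A] [AddSubgroupClass σ A] {𝒜 : ℕ → σ} [GradedRing 𝒜]
  (ψ : 𝒜 →+*ᵍ ℬ) (hψ : ℬ₊ ≤ (𝒜₊).map ψ)
  {M τ : Type u} [AddCommGroup M] [Module A M] [SetLike τ M] [AddSubgroupClass τ M] {ℳ : ℕ → τ}
  [SetLike.GradedSMul 𝒜 ℳ] [DirectSum.Decomposition ℳ]
  {N τ' : Type u} [AddCommGroup N] [Module B N] [SetLike τ' N] [AddSubgroupClass τ' N] {𝒩 : ℕ → τ'}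
  [SetLike.GradedSMul ℬ 𝒩] [DirectSum.Decomposition 𝒩]
  (v : M →ₛₗ[ψ.toRingHom] N) (hv : ∀ (i : ℕ) (m : M), m ∈ ℳ i → v m ∈ 𝒩 i) (n : ℤ)

/-- the adjunct -/
abbrev adj : (Scheme.Modules.pullback (Proj.map ψ hψ)).obj (GrMod.tilde 𝒜 ℳ n) ⟶ GrMod.tilde ℬ 𝒩 n :=
  ((Scheme.Modules.pullbackPushforwardAdjunction (Proj.map ψ hψ)).homEquiv _ _).symm (GrMod.comap ψ hψ v hv n)

theorem adj_puSec {U : (Proj 𝒜).Opens} (s : Γ(GrMod.tilde 𝒜 ℳ n, U)) :
    (adj ψ hψ v hv n).app (Proj.map ψ hψ ⁻¹ᵁ U) (KFlatLib.puSec (Proj.map ψ hψ) s) =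
      (GrMod.comap ψ hψ v hv n).app U s := by
  have h := ((Scheme.Modules.pullbackPushforwardAdjunction (Proj.map ψ hψ)).homEquiv _ _).apply_symm_apply
    (GrMod.comap ψ hψ v hv n)
  rw [Adjunction.homEquiv_unit] at h
  exact congr($(h).app U s)

theorem comap_sec {g : A} (hg : g ∈ 𝒜 1) {i k : ℕ} {m : M} (hm : m ∈ ℳ i) (h : (i : ℤ) = k + n) :
    (GrMod.comap ψ hψ v hv n).app (Proj.basicOpen 𝒜 g) (sec hg hm h) =
      sec (show ψ g ∈ ℬ 1 from ψ.map_mem hg) (hv i m hm) h := by
  refine GrModLib6.sec_ext fun y => ?_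
  refine (GrModLib6.comap_val hψ hv _ _ y).trans ?_
  rw [sec, sec, GrModLib6.val_fracSec, GrModLib6.val_fracSec, GrMod.locModMap_mk]
  exact GrModLib6.mk_congr (by simp [map_pow])

open scoped Classical in
theorem isIso_adj (hcov : ∀ y : Proj ℬ, ∃ g ∈ 𝒜 1, y ∈ Proj.basicOpen ℬ (ψ g))
    (hbc : ∀ (Q : Type u) [AddCommGroup Q] [Module B Q] (w : M →ₛₗ[ψ.toRingHom] Q),
      ∃! g : N →ₗ[B] Q, ∀ m : M, g (v m) = w m) :
    IsIso (adj ψ hψ v hv n) := by
  let f := Proj.map ψ hψ
  let F := GrMod.tilde 𝒜 ℳ n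
  haveI : Coh.IsQCoh F := GrModLib6.isQCoh_tilde n
  haveI : Coh.IsQCoh ((Scheme.Modules.pullback f).obj F) := KFlatLib.isQCoh_pullback f F
  haveI : Coh.IsQCoh (GrMod.tilde ℬ 𝒩 n) := GrModLib6.isQCoh_tilde n
  refine GrTildeLib.isIso_of_bijective_cover _ (fun g : {g : A // g ∈ 𝒜 1} => Proj.basicOpen ℬ (ψ g.1))
    (fun g => Proj.isAffineOpen_basicOpen ℬ _ (ψ.map_mem g.2) Nat.one_pos)
    (top_le_iff.mp fun y _ => by obtain ⟨g, hg, hy⟩ := hcov y; exact Opens.mem_iSup.mpr ⟨⟨g, hg⟩, hy⟩) ?_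
  rintro ⟨g, hg⟩
  have hg' : ψ g ∈ ℬ 1 := ψ.map_mem hg
  let D := Proj.basicOpen 𝒜 g
  let D' := Proj.basicOpen ℬ (ψ g)
  have hle : D' ≤ f ⁻¹ᵁ D := le_rfl
  let T := Γ(KFlatLib.pb f F, D')
  let R' := Γ(Proj ℬ, D')
  let Φ : T →+ Γ(GrMod.tilde ℬ 𝒩 n, D') := ((adj ψ hψ v hv n).app D').hom
  have hΦsmul : ∀ (r : R') (t : T), Φ (r • t) = r • Φ t := fun r t => Scheme.Modules.Hom.app_smul _ r t
  have hΦpu : ∀ s : Γ(F, D), Φ (KFlatLib.puSecLE f F hle s) = (GrMod.comap ψ hψ v hv n).app D s := fun s => by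
    refine Eq.trans ?_ (adj_puSec ψ hψ v hv n s)
    refine congrArg ((adj ψ hψ v hv n).app D').hom ?_
    rw [KFlatLib.puSecLE_apply]
    show (KFlatLib.pb f F).presheaf.map (𝟙 _) _ = _
    rw [CategoryTheory.Functor.map_id]
    rfl
  -- the coefficient map
  let p := n.toNat
  let q₀ := (-n).toNat
  have hpq : (p : ℤ) = q₀ + n := by omega
  let wc : ∀ i, ℳ i →+ T := fun i =>
    { toFun := fun m => KFlatLib.puSecLE f F hle
        (sec hg (smul_mem (pow_mem hg p) m.2) (show ((p + i : ℕ) : ℤ) = (q₀ + i : ℕ) + n by omega))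
      map_zero' := by
        rw [← map_zero (KFlatLib.puSecLE f F hle)]
        refine congrArg _ ?_
        simp only [ZeroMemClass.coe_zero, smul_zero]
        exact sec_zero hg _
      map_add' := fun m m' => by
        rw [← map_add, sec_add]
        refine congrArg _ ?_
        simp only [AddMemClass.coe_add, smul_add] }
  have hwc : ∀ {i k : ℕ} {m : M} (hm : m ∈ ℳ i) (h : (i : ℤ) = k + n),
      wc i ⟨m, hm⟩ = KFlatLib.puSecLE f F hle (sec hg hm h) := fun {i k m} hm h => by
    refine congrArg (KFlatLib.puSecLE f F hle) (sec_congr hg _ _ _ _ ?_)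
    show g ^ k • g ^ p • m = g ^ (q₀ + i) • m
    rw [← mul_smul, ← pow_add, show k + p = q₀ + i by omega]
  letI : Module B (PolynomialModule R' T) := Module.compHom _ (polyHom hg')
  have hsmul : ∀ (b : B) (x : PolynomialModule R' T), b • x = polyHom hg' b • x := fun _ _ => rfl
  let w0 : M →+ PolynomialModule R' T :=
    (DirectSum.toAddMonoid fun i => (PolynomialModule.lsingle R' i).toAddMonoidHom.comp (wc i)).comp
      (DirectSum.decomposeAddEquiv ℳ).toAddMonoidHom
  have hw0 : ∀ {i : ℕ} {m : M} (hm : m ∈ ℳ i), w0 m = PolynomialModule.single R' i (wc i ⟨m, hm⟩) := by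
    intro i m hm
    show DirectSum.toAddMonoid _ (DirectSum.decompose ℳ m) = _
    rw [DirectSum.decompose_of_mem ℳ hm, DirectSum.toAddMonoid_of]
    rfl
  have hwsemi : ∀ (a : A) (m : M), w0 (a • m) = (ψ a) • w0 m := by
    intro a m
    induction a using DirectSum.Decomposition.inductionOn (ℳ := 𝒜) with
    | zero => simp
    | add a b ha hb => rw [add_smul, map_add, ha, hb, map_add, add_smul]
    | @homogeneous c a =>
      induction m using DirectSum.Decomposition.inductionOn (ℳ := ℳ) with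
      | zero => simp
      | add x y hx hy => rw [smul_add, map_add, hx, hy, map_add, smul_add]
      | @homogeneous i x =>
        have hψa : ψ (a : A) ∈ ℬ c := ψ.map_mem a.2
        rw [hw0 (smul_mem a.2 x.2), hw0 x.2, hsmul, polyHom_coe hg' hψa, PolynomialModule.monomial_smul_single]
        refine congrArg _ ?_
        show KFlatLib.puSecLE f F hle _ = fracHom hg' c ⟨_, hψa⟩ • KFlatLib.puSecLE f F hle _
        have hac : (a : A) ∈ 𝒜 (c • 1) := by simp
        have key : f.appLE D D' hle (Proj.awayToSection 𝒜 g (Away.mk 𝒜 hg c a hac)) = fracHom hg' c ⟨_, hψa⟩ := by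
          have e := congr($(Proj.awayToSection_comp_appLE ψ hψ hg) (Away.mk 𝒜 hg c a hac))
          refine e.trans (congrArg (Proj.awayToSection ℬ (ψ g)) ?_)
          exact Away.map_mk ψ g hg c (a : A) hac
        rw [← key, ← KFlatLib.puSecLE_smul, awayToSection_smul_sec hg hac (smul_mem (pow_mem hg p) x.2) _
          (smul_mem a.2 (smul_mem (pow_mem hg p) x.2)) (by omega)]
        exact congrArg _ (sec_congr hg _ _ _ _ (by
          simp only [← mul_smul]
          congr 1
          ring))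
  let w : M →ₛₗ[ψ.toRingHom] PolynomialModule R' T :=
    { toFun := w0, map_add' := w0.map_add, map_smul' := hwsemi }
  obtain ⟨γ, hγ, -⟩ := hbc (PolynomialModule R' T) w
  -- every element of the span of pulled back sections
  let P : T → Prop := fun t => ∃ K : ℕ, ∀ k, K ≤ k → ∀ i : ℕ, (i : ℤ) = k + n →
    ∃ (y : N) (hy : y ∈ 𝒩 i) (h : (i : ℤ) = k + n), Φ t = sec hg' hy h ∧ γ y = PolynomialModule.single R' i t
  have hP0 : P 0 := ⟨0, fun k _ i hi => ⟨0, zero_mem _, hi, by rw [map_zero, sec_zero], by simp⟩⟩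
  have hPadd : ∀ t t', P t → P t' → P (t + t') := by
    rintro t t' ⟨K, hK⟩ ⟨K', hK'⟩
    refine ⟨max K K', fun k hk i hi => ?_⟩
    obtain ⟨y, hy, h, h1, h2⟩ := hK k ((le_max_left _ _).trans hk) i hi
    obtain ⟨y', hy', h', h1', h2'⟩ := hK' k ((le_max_right _ _).trans hk) i hi
    exact ⟨y + y', add_mem hy hy', h, by rw [map_add, h1, h1', sec_add], by
      rw [map_add, h2, h2', PolynomialModule.single_add]⟩
  have hPpu : ∀ s, P (KFlatLib.puSecLE f F hle s) := by
    intro s
    obtain ⟨k₀, i₀, m, hm, h₀, rfl⟩ := exists_eq_sec hg s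
    refine ⟨k₀, fun k hk i hi => ?_⟩
    obtain ⟨l, rfl⟩ := Nat.exists_eq_add_of_le hk
    obtain rfl : i = l + i₀ := by omega
    have hm' : g ^ l • m ∈ ℳ (l + i₀) := smul_mem (pow_mem hg l) hm
    have e : sec hg hm h₀ = sec hg hm' hi := sec_congr hg _ _ _ _ (by
      rw [← mul_smul, ← pow_add])
    refine ⟨v (g ^ l • m), hv _ _ hm', hi, ?_, ?_⟩
    · rw [hΦpu, e]; exact comap_sec ψ hψ v hv n hg hm' hi
    · rw [hγ, e]
      exact (hw0 hm').trans (congrArg _ (hwc hm' hi))
  have hPfrac : ∀ (r : R') (t : T), P t → P (r • t) := by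
    rintro r t ⟨K, hK⟩
    obtain ⟨x, rfl⟩ := (ConcreteCategory.bijective_of_isIso (Proj.basicOpenIsoAway ℬ (ψ g) hg' Nat.one_pos).hom).2 r
    rw [Proj.basicOpenIsoAway_hom]
    obtain ⟨a, b, hb, rfl⟩ := Away.mk_surjective ℬ hg' x
    have hb' : b ∈ ℬ a := by simpa using hb
    refine ⟨a + max K (-n).toNat, fun k hk i hi => ?_⟩
    obtain ⟨l, rfl⟩ : ∃ l, k = a + l := Nat.exists_eq_add_of_le (le_of_add_le_left hk)
    have hl : max K (-n).toNat ≤ l := by omega
    obtain ⟨j, rfl⟩ : ∃ j, i = a + j := Nat.exists_eq_add_of_le (by omega)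
    obtain ⟨y, hy, h, h1, h2⟩ := hK l ((le_max_left _ _).trans hl) j (by omega)
    refine ⟨b • y, smul_mem hb' hy, hi, ?_, ?_⟩
    · rw [hΦsmul, h1]
      exact awayToSection_smul_sec hg' hb hy h (smul_mem hb' hy) hi
    · rw [map_smul, h2, hsmul, polyHom_coe hg' hb', PolynomialModule.monomial_smul_single]
      rfl
  have hPall : ∀ t, P t := by
    letI := (f.appLE D D' hle).hom.toAlgebra
    letI : Module Γ(Proj 𝒜, D) T := Module.compHom T (f.appLE D D' hle).hom
    haveI : IsScalarTower Γ(Proj 𝒜, D) R' T := ⟨fun a b c => mul_smul ((f.appLE D D' hle).hom a) b c⟩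
    let l : Γ(F, D) →ₗ[Γ(Proj 𝒜, D)] T :=
      { toFun := KFlatLib.puSecLE f F hle, map_add' := map_add _,
        map_smul' := fun r m => KFlatLib.puSecLE_smul f F hle r m }
    have hl : IsBaseChange R' l := KFlatLib.isBaseChange_puSec f F
      (Proj.isAffineOpen_basicOpen 𝒜 g hg Nat.one_pos) (Proj.isAffineOpen_basicOpen ℬ (ψ g) hg' Nat.one_pos)
      hle (fun _ => rfl) l (fun _ => rfl)
    intro t
    induction t using hl.inductionOn with
    | zero => exact hP0
    | tmul s => exact hPpu s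
    | smul r t h => exact hPfrac r t h
    | add a b ha hb => exact hPadd a b ha hb
  refine ⟨(injective_iff_map_eq_zero Φ).mpr fun t ht => ?_, fun s => ?_⟩
  · obtain ⟨K, hK⟩ := hPall t
    let k := max K (-n).toNat
    obtain ⟨i, hi⟩ : ∃ i : ℕ, (i : ℤ) = k + n := ⟨((k : ℤ) + n).toNat, by omega⟩
    obtain ⟨y, hy, h, h1, h2⟩ := hK k (le_max_left _ _) i hi
    obtain ⟨l, hl⟩ := exists_pow_smul_of_sec_eq_zero hg' hy h (h1.symm.trans ht)
    have e := congrArg γ hl
    rw [map_smul, map_zero, h2, hsmul, polyHom_coe hg' (pow_mem hg' l), PolynomialModule.monomial_smul_single] at e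
    have e' := congrArg (fun z => z.coeff (l + i)) e
    simp only [PolynomialModule.coeff_single, Finsupp.single_eq_same, PolynomialModule.coeff_zero,
      Finsupp.coe_zero, Pi.zero_apply] at e'
    have hu : fracHom hg' l ⟨ψ g ^ l, pow_mem hg' l⟩ = 1 := by
      refine (congrArg (Proj.awayToSection ℬ (ψ g)) (?_ : _ = (1 : Away ℬ (ψ g)))).trans
        (map_one (Proj.awayToSection ℬ (ψ g)).hom)
      apply HomogeneousLocalization.val_injective
      rw [Away.val_mk, HomogeneousLocalization.val_one]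
      exact Localization.mk_self (⟨ψ g ^ l, l, rfl⟩ : Submonoid.powers (ψ g))
    rwa [hu, one_smul] at e'
  · obtain ⟨k, i, y, hy, h, rfl⟩ := exists_eq_sec hg' s
    have hspan : y ∈ Submodule.span B (Set.range v) := by
      let S := Submodule.span B (Set.range v)
      obtain ⟨γ', -, huniq⟩ := hbc (N ⧸ S) 0
      have e1 := huniq 0 (fun m => rfl)
      have e2 := huniq S.mkQ (fun m => (Submodule.Quotient.mk_eq_zero S).mpr (Submodule.subset_span ⟨m, rfl⟩))
      exact (Submodule.Quotient.mk_eq_zero S).mp (congr($(e2.trans e1.symm) y))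
    have hloc : ∀ y ∈ Submodule.span B (Set.range v), ∀ (b : B) (i k : ℕ) (h : (i : ℤ) = k + n),
        sec hg' (SetLike.coe_mem (DirectSum.decompose 𝒩 (b • y) i)) h ∈ Set.range Φ := by
      intro y hy
      induction hy using Submodule.span_induction with
      | mem y hy =>
        obtain ⟨m, rfl⟩ := hy
        intro b
        induction b using DirectSum.Decomposition.inductionOn (ℳ := ℬ) with
        | zero => intro i k h; exact ⟨0, by simp [sec_zero]⟩
        | add b b' hb hb' =>
          intro i k h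
          obtain ⟨t, ht⟩ := hb i k h
          obtain ⟨t', ht'⟩ := hb' i k h
          exact ⟨t + t', by rw [map_add, ht, ht', sec_add]; exact sec_congr hg' _ _ _ _ (by simp [add_smul])⟩
        | @homogeneous a b =>
          induction m using DirectSum.Decomposition.inductionOn (ℳ := ℳ) with
          | zero => intro i k h; exact ⟨0, by simp [sec_zero]⟩
          | add m m' hm hm' =>
            intro i k h
            obtain ⟨t, ht⟩ := hm i k h
            obtain ⟨t', ht'⟩ := hm' i k h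
            exact ⟨t + t', by rw [map_add, ht, ht', sec_add]; exact sec_congr hg' _ _ _ _ (by simp [smul_add])⟩
          | @homogeneous c m =>
            intro i k h
            have hbv : (b : B) • v (m : M) ∈ 𝒩 (a + c) := smul_mem b.2 (hv c m m.2)
            by_cases hic : a + c = i
            · subst hic
              have hm' : g ^ a • (m : M) ∈ ℳ (a + c) := smul_mem (pow_mem hg a) m.2
              refine ⟨fracHom hg' a b • KFlatLib.puSecLE f F hle (sec hg hm' h), ?_⟩
              rw [hΦsmul, hΦpu, comap_sec ψ hψ v hv n hg hm' h]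
              refine (awayToSection_smul_sec hg' (by simp) (hv _ _ hm') h
                (smul_mem b.2 (hv _ _ hm')) (by omega)).trans (sec_congr hg' _ _ _ _ ?_)
              rw [DirectSum.decompose_of_mem_same 𝒩 hbv, LinearMap.map_smulₛₗ]
              show ψ g ^ k • (b : B) • ψ (g ^ a) • v (m : M) = ψ g ^ (a + k) • (b : B) • v (m : M)
              rw [map_pow]
              simp only [← mul_smul]
              congr 1
              ring
            · refine ⟨0, ?_⟩
              rw [map_zero, eq_comm]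
              have e0 := DirectSum.decompose_of_mem_ne 𝒩 hbv hic
              refine (sec_congr hg' _ (zero_mem (𝒩 i)) h h (by rw [e0])).trans (sec_zero hg' h)
      | zero => intro b i k h; exact ⟨0, by simp [sec_zero]⟩
      | add y y' _ _ hy hy' =>
        intro b i k h
        obtain ⟨t, ht⟩ := hy b i k h
        obtain ⟨t', ht'⟩ := hy' b i k h
        exact ⟨t + t', by rw [map_add, ht, ht', sec_add]; exact sec_congr hg' _ _ _ _ (by simp [smul_add])⟩
      | smul r y _ hy => intro b i k h; rw [← mul_smul]; exact hy _ i k h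
    obtain ⟨t, ht⟩ := hloc y hspan 1 i k h
    exact ⟨t, ht.trans (sec_congr hg' _ _ _ _ (by rw [one_smul, DirectSum.decompose_of_mem_same 𝒩 hy]))⟩

end GrPullLib
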