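import Groth.Agent.GrPullLib.FracD
import Groth.Agent.GrPullLib.Adjunct
import Mathlib.RingTheory.IsTensorProduct

/-!
# The twisting sheaves under a change of the base ring
-/

set_option autoImplicit false
set_option backward.isDefEq.respectTransparency false
set_option backward.isDefEq.respectTransparency.types false
universe u

open CategoryTheory CategoryTheory.Limits AlgebraicGeometry TopologicalSpace Opposite HomogeneousLocalization
open scoped HomogeneousIdeal

noncomputable section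

namespace GrPullLib

variable {R R' A B : Type u} [CommRing R'] [CommRing R] [Algebra R' R]
  [CommRing B] [Algebra R' B] {ℬ : ℕ → Submodule R' B} [GradedAlgebra ℬ]
  [CommRing A] [Algebra R A] [Algebra R' A] [IsScalarTower R' R A] {𝒜 : ℕ → Submodule R A} [GradedAlgebra 𝒜]
  [Algebra B A] [IsScalarTower R' B A] [Algebra.IsPushout R' R B A]
  (φ : ℬ →+*ᵍ 𝒜) (hφA : ∀ b : B, φ b = algebraMap B A b) (hφ : 𝒜₊ ≤ (ℬ₊).map φ) (n : ℤ)

theorem comap_secD {d : ℕ} {g : B} (hg : g ∈ ℬ d) {i k : ℕ} {m : B} (hm : m ∈ ℬ i) (h : (i : ℤ) = (k * d : ℕ) + n)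
    (v : B →ₛₗ[φ.toRingHom] A) (hv : ∀ (i : ℕ) (m : B), m ∈ ℬ i → v m ∈ 𝒜 i) :
    (GrMod.comap φ hφ v hv n).app (Proj.basicOpen ℬ g) (secD hg k hm h) =
      secD (show φ g ∈ 𝒜 d from φ.map_mem hg) k (hv i m hm) h := by
  refine GrModLib6.sec_ext fun y => ?_
  refine (GrModLib6.comap_val hφ hv _ _ y).trans ?_
  rw [secD, secD, GrModLib6.val_fracSec, GrModLib6.val_fracSec, GrMod.locModMap_mk]
  exact GrModLib6.mk_congr (by simp [map_pow])

open scoped Classical in
include hφA in
theorem isIso_adj_baseChange :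
    IsIso (adj φ hφ (φ.toRingHom.toSemilinearMap) (fun _ _ h => φ.map_mem h) n :
      (Scheme.Modules.pullback (Proj.map φ hφ)).obj (GrMod.tilde ℬ ℬ n) ⟶ GrMod.tilde 𝒜 𝒜 n) := by
  let f := Proj.map φ hφ
  let v := φ.toRingHom.toSemilinearMap
  have hv : ∀ (i : ℕ) (m : B), m ∈ ℬ i → v m ∈ 𝒜 i := fun _ _ h => φ.map_mem h
  let F := GrMod.tilde ℬ ℬ n
  haveI : Coh.IsQCoh F := GrModLib6.isQCoh_tilde n
  haveI : Coh.IsQCoh ((Scheme.Modules.pullback f).obj F) := KFlatLib.isQCoh_pullback f F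
  haveI : Coh.IsQCoh (GrMod.tilde 𝒜 𝒜 n) := GrModLib6.isQCoh_tilde n
  refine GrTildeLib.isIso_of_bijective_cover _
    (fun g : Σ d : {d : ℕ // 0 < d}, ℬ d.1 => Proj.basicOpen 𝒜 (φ (g.2 : B)))
    (fun g => Proj.isAffineOpen_basicOpen 𝒜 _ (φ.map_mem g.2.2) g.1.2)
    (top_le_iff.mp fun y _ => ?_) ?_
  · refine Opens.mem_iSup.mpr ?_
    by_contra hc
    push Not at hc
    refine y.not_irrelevant_le (hφ.trans ?_)
    rw [← toIdeal_le_toIdeal_iff]
    show Ideal.map (φ : B →+* A) (ℬ₊).toIdeal ≤ y.asHomogeneousIdeal.toIdeal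
    refine Ideal.map_le_iff_le_comap.mpr ((HomogeneousIdeal.toIdeal_irrelevant_le _).mpr fun d hd x hx => ?_)
    by_contra hxy
    exact hc ⟨⟨d, hd⟩, ⟨x, hx⟩⟩ ((Proj.mem_basicOpen 𝒜 _ y).mpr hxy)
  rintro ⟨⟨d, hd⟩, ⟨g, hg⟩⟩
  have hg' : φ g ∈ 𝒜 d := φ.map_mem hg
  let D := Proj.basicOpen ℬ g
  let D' := Proj.basicOpen 𝒜 (φ g)
  have hle : D' ≤ f ⁻¹ᵁ D := le_rfl
  let T := Γ(KFlatLib.pb f F, D')
  let O' := Γ(Proj 𝒜, D')
  let Φ : T →+ Γ(GrMod.tilde 𝒜 𝒜 n, D') := ((adj φ hφ v hv n).app D').hom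
  have hΦsmul : ∀ (r : O') (t : T), Φ (r • t) = r • Φ t := fun r t => Scheme.Modules.Hom.app_smul _ r t
  have hΦpu : ∀ s : Γ(F, D), Φ (KFlatLib.puSecLE f F hle s) = (GrMod.comap φ hφ v hv n).app D s := fun s => by
    refine Eq.trans ?_ (adj_puSec φ hφ v hv n s)
    refine congrArg ((adj φ hφ v hv n).app D').hom ?_
    rw [KFlatLib.puSecLE_apply]
    show (KFlatLib.pb f F).presheaf.map (𝟙 _) _ = _
    rw [CategoryTheory.Functor.map_id]
    rfl
  -- fractions
  let fr : ∀ a : ℕ, 𝒜 (a * d) →+ O' := fun a =>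
    { toFun := fun b => Proj.awayToSection 𝒜 (φ g) (Away.mk 𝒜 hg' a (b : A) (by simp))
      map_zero' := by
        refine (congrArg (Proj.awayToSection 𝒜 (φ g)) (?_ : _ = (0 : Away 𝒜 (φ g)))).trans
          (map_zero (Proj.awayToSection 𝒜 (φ g)).hom)
        apply HomogeneousLocalization.val_injective
        simp [Away.val_mk, Localization.mk_zero]
      map_add' := fun b c => by
        refine (congrArg (Proj.awayToSection 𝒜 (φ g)) (?_ : _ = (_ + _ : Away 𝒜 (φ g)))).trans
          (map_add (Proj.awayToSection 𝒜 (φ g)).hom _ _)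
        apply HomogeneousLocalization.val_injective
        simp [Away.val_mk, Localization.add_mk_self] }
  have hr0 : ∀ r : R, algebraMap R A r ∈ 𝒜 (0 * d) := fun r => by
    rw [zero_mul]; exact SetLike.algebraMap_mem_graded 𝒜 r
  let ρ : R →+* O' :=
    { toFun := fun r => fr 0 ⟨_, hr0 r⟩
      map_one' := by
        refine (congrArg (Proj.awayToSection 𝒜 (φ g)) (?_ : _ = (1 : Away 𝒜 (φ g)))).trans
          (map_one (Proj.awayToSection 𝒜 (φ g)).hom)
        apply HomogeneousLocalization.val_injective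
        simp only [Away.val_mk, HomogeneousLocalization.val_one, pow_zero, map_one, ← Localization.mk_one]
        rfl
      map_mul' := fun r s => by
        refine (congrArg (Proj.awayToSection 𝒜 (φ g)) (?_ : _ = (_ * _ : Away 𝒜 (φ g)))).trans
          (map_mul (Proj.awayToSection 𝒜 (φ g)).hom _ _)
        apply HomogeneousLocalization.val_injective
        simp only [Away.val_mk, HomogeneousLocalization.val_mul, Localization.mk_mul, map_mul]
        congr 1
        exact Subtype.ext (by simp)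
      map_zero' := by
        rw [show (⟨_, hr0 0⟩ : 𝒜 (0 * d)) = 0 from Subtype.ext (map_zero _), map_zero]
      map_add' := fun r s => by
        rw [show (⟨_, hr0 (r + s)⟩ : 𝒜 (0 * d)) = ⟨_, hr0 r⟩ + ⟨_, hr0 s⟩ from Subtype.ext (map_add _ _ _),
          map_add] }
  letI : Module R T := Module.compHom T ρ
  letI : Module R' T := Module.compHom T (algebraMap R' R)
  haveI : IsScalarTower R' R T := ⟨fun a r t => by rw [Algebra.smul_def, mul_smul]; rfl⟩
  have hRT : ∀ (r : R) (t : T), r • t = ρ r • t := fun _ _ => rfl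
  -- the projections commute with `φ`
  have hproj : ∀ (b : B) (i : ℕ), GradedAlgebra.proj 𝒜 i (φ b) = φ (GradedAlgebra.proj ℬ i b) := fun b i =>
    (GrModLib6.decompose_semilinear (ℳ := ℬ) (𝒩 := 𝒜) φ v hv b i).symm
  have hφr : ∀ (a : R') (b : B), φ (a • b) = algebraMap R A (algebraMap R' R a) * φ b := fun a b => by
    rw [hφA, hφA, Algebra.smul_def, map_mul, ← IsScalarTower.algebraMap_apply R' B A,
      IsScalarTower.algebraMap_apply R' R A]
  -- the coefficient maps
  let wk : ∀ (k i : ℕ), (i : ℤ) = (k * d : ℕ) + n → (B →ₗ[R'] T) := fun k i h =>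
    { toFun := fun b => KFlatLib.puSecLE f F hle (secD hg k (SetLike.coe_mem (DirectSum.decompose ℬ b i)) h)
      map_add' := fun b c => by
        rw [← map_add, secD_add]
        exact congrArg _ (secD_congr hg _ _ _ _ (by simp))
      map_smul' := fun a b => by
        show _ = ρ (algebraMap R' R a) • KFlatLib.puSecLE f F hle _
        have hba : algebraMap R' B a ∈ ℬ (0 • d) := by rw [zero_smul]; exact SetLike.algebraMap_mem_graded ℬ a
        have key : f.appLE D D' hle (Proj.awayToSection ℬ g (Away.mk ℬ hg 0 _ hba)) = ρ (algebraMap R' R a) := by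
          have e := congr($(Proj.awayToSection_comp_appLE φ hφ hg) (Away.mk ℬ hg 0 _ hba))
          refine e.trans (congrArg (Proj.awayToSection 𝒜 (φ g)) ?_)
          refine (Away.map_mk φ g hg 0 _ hba).trans ?_
          apply HomogeneousLocalization.val_injective
          simp only [Away.val_mk]
          congr 1
          rw [hφA, ← IsScalarTower.algebraMap_apply R' B A, IsScalarTower.algebraMap_apply R' R A]
        rw [← key, ← KFlatLib.puSecLE_smul, awayToSection_smul_secD hg hba _ h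
          (show algebraMap R' B a • (DirectSum.decompose ℬ b i : B) ∈ ℬ i from by
            rw [smul_eq_mul, ← Algebra.smul_def]; exact Submodule.smul_mem _ _ (SetLike.coe_mem _))
          (show (i : ℤ) = ((0 + k) * d : ℕ) + n by rw [zero_add]; exact h)]
        refine congrArg _ (secD_congr hg _ _ _ _ ?_)
        simp only [DirectSum.decompose_smul, DirectSum.smul_apply, Submodule.coe_smul, smul_eq_mul, zero_add]
        rw [Algebra.smul_def] }
  have hbase : IsBaseChange R (IsScalarTower.toAlgHom R' B A).toLinearMap := Algebra.IsPushout.out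
  let γ : ∀ (k i : ℕ), (i : ℤ) = (k * d : ℕ) + n → (A →ₗ[R] T) := fun k i h => hbase.lift (wk k i h)
  have hγ : ∀ (k i : ℕ) h (b : B), γ k i h (φ b) = wk k i h b := fun k i h b => by
    rw [hφA]; exact hbase.lift_eq (wk k i h) b
  have hind : ∀ {P : A → Prop}, P 0 → (∀ b : B, P (φ b)) → (∀ (r : R) (a : A), P a → P (r • a)) →
      (∀ a a', P a → P a' → P (a + a')) → ∀ a, P a := by
    intro P h0 h1 h2 h3 a
    induction a using hbase.inductionOn with
    | zero => exact h0
    | tmul b => exact (hφA b) ▸ h1 b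
    | smul r a ha => exact h2 r a ha
    | add a a' ha ha' => exact h3 a a' ha ha'
  -- `γ` is linear over fractions
  have hγmul : ∀ (a k i i' : ℕ) (h : (i : ℤ) = (k * d : ℕ) + n) (h' : (i' : ℤ) = ((a + k) * d : ℕ) + n)
      (b y : A), γ (a + k) i' h' (GradedAlgebra.proj 𝒜 (a * d) b * GradedAlgebra.proj 𝒜 i y) =
        fr a ⟨_, SetLike.coe_mem (DirectSum.decompose 𝒜 b (a * d))⟩ • γ k i h y := by
    intro a k i i' h h'
    have hi : a * d + i = i' := by rw [add_mul] at h'; omega
    refine hind ?_ ?_ ?_ ?_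
    · intro y
      rw [map_zero, zero_mul, map_zero, eq_comm]
      refine (congrArg (· • γ k i h y) ((congrArg (fr a) (Subtype.ext (by simp))).trans (map_zero _))).trans (zero_smul _ _)
    · intro β
      refine hind ?_ ?_ ?_ ?_
      · simp
      · intro m
        rw [hproj, hproj, ← map_mul, hγ, hγ]
        show KFlatLib.puSecLE f F hle _ = _ • KFlatLib.puSecLE f F hle _
        have hb : GradedAlgebra.proj ℬ (a * d) β ∈ ℬ (a • d) := by
          rw [smul_eq_mul]; exact SetLike.coe_mem _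
        have key : f.appLE D D' hle (Proj.awayToSection ℬ g (Away.mk ℬ hg a _ hb)) =
            fr a ⟨_, SetLike.coe_mem (DirectSum.decompose 𝒜 (φ β) (a * d))⟩ := by
          have e := congr($(Proj.awayToSection_comp_appLE φ hφ hg) (Away.mk ℬ hg a _ hb))
          refine e.trans (congrArg (Proj.awayToSection 𝒜 (φ g)) ?_)
          refine (Away.map_mk φ g hg a _ hb).trans ?_
          apply HomogeneousLocalization.val_injective
          simp only [Away.val_mk]
          congr 1
          exact (hproj β (a * d)).symm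
        have hbm : GradedAlgebra.proj ℬ (a * d) β • (DirectSum.decompose ℬ m i : B) ∈ ℬ i' :=
          hi ▸ SetLike.mul_mem_graded (SetLike.coe_mem _) (SetLike.coe_mem _)
        rw [← key, ← KFlatLib.puSecLE_smul, awayToSection_smul_secD hg hb _ h hbm h']
        refine congrArg _ (secD_congr hg _ _ _ _ ?_)
        rw [smul_eq_mul] at hbm
        simp only [smul_eq_mul, GradedAlgebra.proj_apply] at hbm ⊢
        rw [DirectSum.decompose_of_mem_same ℬ hbm]
      · intro r y hy
        rw [map_smul, mul_smul_comm, map_smul, hy, map_smul, hRT, hRT, smul_comm]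
      · intro y y' hy hy'
        rw [map_add, mul_add, map_add, hy, hy', map_add, smul_add]
    · intro r b hb y
      rw [map_smul, smul_mul_assoc, map_smul, hb y, hRT, ← mul_smul]
      refine congrArg (· • γ k i h y) ?_
      refine ((map_mul (Proj.awayToSection 𝒜 (φ g)).hom _ _).symm).trans (congrArg (Proj.awayToSection 𝒜 (φ g)) ?_)
      apply HomogeneousLocalization.val_injective
      simp only [Away.val_mk, HomogeneousLocalization.val_mul, Localization.mk_mul]
      congr 1
      · rw [← Algebra.smul_def, DirectSum.decompose_smul, DirectSum.smul_apply, Submodule.coe_smul]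
      · exact Subtype.ext (by simp)
    · intro b b' hb hb' y
      rw [map_add, add_mul, map_add, hb y, hb' y, ← add_smul, ← map_add]
      exact congrArg (fun z => fr a z • γ k i h y) (Subtype.ext (by simp))
  have hγmul' : ∀ (a k i i' : ℕ) (h : (i : ℤ) = (k * d : ℕ) + n) (h' : (i' : ℤ) = ((a + k) * d : ℕ) + n)
      (b : A) (hb : b ∈ 𝒜 (a * d)) (y : A), y ∈ 𝒜 i → γ (a + k) i' h' (b * y) = fr a ⟨b, hb⟩ • γ k i h y := by
    intro a k i i' h h' b hb y hy
    have e := hγmul a k i i' h h' b y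
    have e1 : (⟨_, SetLike.coe_mem (DirectSum.decompose 𝒜 b (a * d))⟩ : 𝒜 (a * d)) = ⟨b, hb⟩ :=
      Subtype.ext (DirectSum.decompose_of_mem_same 𝒜 hb)
    rw [e1] at e
    rw [GradedAlgebra.proj_apply, GradedAlgebra.proj_apply, DirectSum.decompose_of_mem_same 𝒜 hb,
      DirectSum.decompose_of_mem_same 𝒜 hy] at e
    exact e
  let P : T → Prop := fun t => ∃ K : ℕ, ∀ k, K ≤ k → ∀ (i : ℕ) (h : (i : ℤ) = (k * d : ℕ) + n),
    ∃ (y : A) (hy : y ∈ 𝒜 i), Φ t = secD hg' k hy h ∧ γ k i h y = t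
  have hP0 : P 0 := ⟨0, fun k _ i h => ⟨0, zero_mem _, by rw [map_zero, secD_zero], map_zero _⟩⟩
  have hPadd : ∀ t t', P t → P t' → P (t + t') := by
    rintro t t' ⟨K, hK⟩ ⟨K', hK'⟩
    refine ⟨max K K', fun k hk i h => ?_⟩
    obtain ⟨y, hy, h1, h2⟩ := hK k ((le_max_left _ _).trans hk) i h
    obtain ⟨y', hy', h1', h2'⟩ := hK' k ((le_max_right _ _).trans hk) i h
    exact ⟨y + y', add_mem hy hy', by rw [map_add, h1, h1', secD_add], by rw [map_add, h2, h2']⟩
  have hPpu : ∀ s, P (KFlatLib.puSecLE f F hle s) := by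
    intro s
    obtain ⟨k₀, i₀, m, hm, h₀, rfl⟩ := exists_eq_secD hg hd s
    refine ⟨k₀, fun k hk i h => ?_⟩
    obtain ⟨l, rfl⟩ := Nat.exists_eq_add_of_le hk
    have hil : l * d + i₀ = i := by
      have := add_mul k₀ l d
      push_cast [this] at h h₀
      omega
    have hm' : g ^ l * m ∈ ℬ i := hil ▸ SetLike.mul_mem_graded (pow_memD hg l) hm
    have e : secD hg k₀ hm h₀ = secD hg (k₀ + l) hm' h := secD_congr hg _ _ _ _ (by
      simp only [smul_eq_mul, pow_add]; ring)
    refine ⟨φ (g ^ l * m), hv _ _ hm', ?_, ?_⟩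
    · rw [hΦpu, e]; exact comap_secD φ hφ n hg hm' h v hv
    · rw [hγ, e]
      refine congrArg (KFlatLib.puSecLE f F hle) (secD_congr hg _ hm' h h ?_)
      rw [DirectSum.decompose_of_mem_same ℬ hm']
  have hPfrac : ∀ (r : O') (t : T), P t → P (r • t) := by
    rintro r t ⟨K, hK⟩
    obtain ⟨x, rfl⟩ := (ConcreteCategory.bijective_of_isIso (Proj.basicOpenIsoAway 𝒜 (φ g) hg' hd).hom).2 r
    rw [Proj.basicOpenIsoAway_hom]
    obtain ⟨a, b, hb, rfl⟩ := Away.mk_surjective 𝒜 hg' x
    have hb' : b ∈ 𝒜 (a * d) := by simpa using hb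
    refine ⟨a + max K (-n).toNat, fun k hk i h => ?_⟩
    obtain ⟨l, rfl⟩ : ∃ l, k = a + l := Nat.exists_eq_add_of_le (le_of_add_le_left hk)
    have hl : max K (-n).toNat ≤ l := by omega
    have hld : (-n).toNat ≤ l * d := (le_max_right _ _).trans (hl.trans (Nat.le_mul_of_pos_right l hd))
    obtain ⟨j, hj⟩ : ∃ j : ℕ, (j : ℤ) = (l * d : ℕ) + n := ⟨((l * d : ℕ) + n : ℤ).toNat, by omega⟩
    have hij : a * d + j = i := by rw [add_mul] at h; omega
    obtain ⟨y, hy, h1, h2⟩ := hK l ((le_max_left _ _).trans hl) j hj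
    have hby : b • y ∈ 𝒜 i := hij ▸ SetLike.mul_mem_graded hb' hy
    refine ⟨b • y, hby, ?_, ?_⟩
    · rw [hΦsmul, h1]
      exact awayToSection_smul_secD hg' hb hy hj hby h
    · rw [smul_eq_mul, hγmul' a l j i hj h b hb' y hy, h2]
      rfl
  have hPall : ∀ t, P t := by
    letI := (f.appLE D D' hle).hom.toAlgebra
    letI : Module Γ(Proj ℬ, D) T := Module.compHom T (f.appLE D D' hle).hom
    haveI : IsScalarTower Γ(Proj ℬ, D) O' T := ⟨fun a b c => mul_smul ((f.appLE D D' hle).hom a) b c⟩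
    let l : Γ(F, D) →ₗ[Γ(Proj ℬ, D)] T :=
      { toFun := KFlatLib.puSecLE f F hle, map_add' := map_add _,
        map_smul' := fun r m => KFlatLib.puSecLE_smul f F hle r m }
    have hl : IsBaseChange O' l := KFlatLib.isBaseChange_puSec f F
      (Proj.isAffineOpen_basicOpen ℬ g hg hd) (Proj.isAffineOpen_basicOpen 𝒜 (φ g) hg' hd)
      hle (fun _ => rfl) l (fun _ => rfl)
    intro t
    induction t using hl.inductionOn with
    | zero => exact hP0
    | tmul s => exact hPpu s
    | smul r t h => exact hPfrac r t h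
    | add a b ha hb => exact hPadd a b ha hb
  refine ⟨(injective_iff_map_eq_zero Φ).mpr fun t ht => ?_, fun s => ?_⟩
  · obtain ⟨K, hK⟩ := hPall t
    let k := max K (-n).toNat
    have hkd : (-n).toNat ≤ k * d := (le_max_right _ _).trans (Nat.le_mul_of_pos_right k hd)
    obtain ⟨i, hi⟩ : ∃ i : ℕ, (i : ℤ) = (k * d : ℕ) + n := ⟨((k * d : ℕ) + n : ℤ).toNat, by omega⟩
    obtain ⟨y, hy, h1, h2⟩ := hK k (le_max_left _ _) i hi
    obtain ⟨l, hl⟩ := exists_pow_smul_of_secD_eq_zero hg' hd hy hi (h1.symm.trans ht)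
    obtain ⟨i', hi'⟩ : ∃ i' : ℕ, (i' : ℤ) = ((l + k) * d : ℕ) + n := ⟨l * d + i, by rw [add_mul]; omega⟩
    have e := hγmul' l k i i' hi hi' (φ g ^ l) (pow_memD hg' l) y hy
    rw [h2, ← smul_eq_mul, hl, map_zero] at e
    have hu : fr l ⟨φ g ^ l, pow_memD hg' l⟩ = 1 := by
      refine (congrArg (Proj.awayToSection 𝒜 (φ g)) (?_ : _ = (1 : Away 𝒜 (φ g)))).trans
        (map_one (Proj.awayToSection 𝒜 (φ g)).hom)
      apply HomogeneousLocalization.val_injective
      rw [Away.val_mk, HomogeneousLocalization.val_one]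
      exact Localization.mk_self (⟨φ g ^ l, l, rfl⟩ : Submonoid.powers (φ g))
    rw [hu, one_smul] at e
    exact e.symm
  · obtain ⟨k, i, y, hy, h, rfl⟩ := exists_eq_secD hg' hd s
    have hloc : ∀ y : A, secD hg' k (SetLike.coe_mem (DirectSum.decompose 𝒜 y i)) h ∈ Set.range Φ := by
      refine hind ⟨0, ?_⟩ (fun b => ?_) (fun r a ha => ?_) (fun a a' ha ha' => ?_)
      · rw [map_zero]
        exact ((secD_congr hg' _ (zero_mem (𝒜 i)) h h (by simp)).trans (secD_zero hg' h)).symm
      · refine ⟨KFlatLib.puSecLE f F hle (secD hg k (SetLike.coe_mem (DirectSum.decompose ℬ b i)) h), ?_⟩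
        rw [hΦpu, comap_secD φ hφ n hg _ h v hv]
        refine secD_congr hg' _ _ _ _ ?_
        congr 1
        exact (hproj b i).symm
      · obtain ⟨t, ht⟩ := ha
        refine ⟨ρ r • t, ?_⟩
        rw [hΦsmul, ht]
        refine (awayToSection_smul_secD hg' (by rw [zero_smul]; exact SetLike.algebraMap_mem_graded 𝒜 r) _ h
          (show algebraMap R A r • (DirectSum.decompose 𝒜 a i : A) ∈ 𝒜 i from by
            rw [smul_eq_mul, ← Algebra.smul_def]; exact Submodule.smul_mem _ _ (SetLike.coe_mem _))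
          (show (i : ℤ) = ((0 + k) * d : ℕ) + n by rw [zero_add]; exact h)).trans (secD_congr hg' _ _ _ _ ?_)
        simp only [DirectSum.decompose_smul, DirectSum.smul_apply, Submodule.coe_smul, smul_eq_mul, zero_add]
        rw [Algebra.smul_def]
      · obtain ⟨t, ht⟩ := ha
        obtain ⟨t', ht'⟩ := ha'
        exact ⟨t + t', by rw [map_add, ht, ht', secD_add]; exact secD_congr hg' _ _ _ _ (by simp)⟩
    obtain ⟨t, ht⟩ := hloc y
    exact ⟨t, ht.trans (secD_congr hg' _ _ _ _ (by rw [DirectSum.decompose_of_mem_same 𝒜 hy]))⟩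

end GrPullLib
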