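import Groth.Agent.GrModLib6.Chart

/-!
# Fractions `m / g ^ k` on the chart of an element of degree one
-/

set_option autoImplicit false
set_option backward.isDefEq.respectTransparency false
set_option backward.isDefEq.respectTransparency.types false
universe u

open CategoryTheory AlgebraicGeometry TopologicalSpace Opposite HomogeneousLocalization

noncomputable section

namespace GrPullLib

variable {A σ : Type u} [CommRing A] [SetLike σ A] [AddSubgroupClass σ A] {𝒜 : ℕ → σ} [GradedRing 𝒜]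
  {M τ : Type u} [AddCommGroup M] [Module A M] [SetLike τ M] [AddSubgroupClass τ M] {ℳ : ℕ → τ}
  [SetLike.GradedSMul 𝒜 ℳ] {n : ℤ}

theorem pow_mem {g : A} (hg : g ∈ 𝒜 1) (k : ℕ) : g ^ k ∈ 𝒜 k := by
  simpa using SetLike.pow_mem_graded k hg

/-- `m / g ^ k` -/
def sec {g : A} (hg : g ∈ 𝒜 1) {i k : ℕ} {m : M} (hm : m ∈ ℳ i) (h : (i : ℤ) = k + n) :
    Γ(GrMod.tilde 𝒜 ℳ n, Proj.basicOpen 𝒜 g) :=
  GrModLib6.fracSec hm (pow_mem hg k) h (fun x => GrModLib6.pow_nin x k)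

variable {g : A} (hg : g ∈ 𝒜 1)

theorem sec_congr {i i' k k' : ℕ} {m m' : M} (hm : m ∈ ℳ i) (hm' : m' ∈ ℳ i') (h : (i : ℤ) = k + n)
    (h' : (i' : ℤ) = k' + n) (e : g ^ k' • m = g ^ k • m') : sec hg hm h = sec hg hm' h' := by
  refine GrModLib6.sec_ext fun x => ?_
  rw [sec, sec, GrModLib6.val_fracSec, GrModLib6.val_fracSec]
  exact GrModLib6.mk_congr e

theorem smul_mem {a : ℕ} {b : A} (hb : b ∈ 𝒜 a) {i : ℕ} {m : M} (hm : m ∈ ℳ i) : b • m ∈ ℳ (a + i) :=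
  SetLike.GradedSMul.smul_mem hb hm

theorem awayToSection_smul_sec {a : ℕ} {b : A} (hb : b ∈ 𝒜 (a • 1)) {i k : ℕ} {m : M} (hm : m ∈ ℳ i)
    (h : (i : ℤ) = k + n) (hbm : b • m ∈ ℳ (a + i)) (h' : ((a + i : ℕ) : ℤ) = (a + k : ℕ) + n) :
    (show Γ(Proj 𝒜, Proj.basicOpen 𝒜 g) from Proj.awayToSection 𝒜 g (Away.mk 𝒜 hg a b hb)) • sec hg hm h =
      sec hg hbm h' := by
  refine GrModLib6.sec_ext fun x => ?_
  rw [GrModLib6.val_smul, sec, sec, GrModLib6.val_fracSec, GrModLib6.val_fracSec,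
    GrModLib6.val_awayToSection hg hb x, LocalizedModule.mk_smul_mk]
  exact GrModLib6.mk_congr (by simp only [Submonoid.coe_mul, pow_add])

theorem sec_add {i k : ℕ} {m m' : M} (hm : m ∈ ℳ i) (hm' : m' ∈ ℳ i) (h : (i : ℤ) = k + n) :
    sec hg hm h + sec hg hm' h = sec hg (add_mem hm hm') h := by
  refine GrModLib6.sec_ext fun x => ?_
  rw [GrModLib6.val_add, sec, sec, sec, GrModLib6.val_fracSec, GrModLib6.val_fracSec, GrModLib6.val_fracSec,
    LocalizedModule.mk_add_mk]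
  refine GrModLib6.mk_congr ?_
  simp only [Submonoid.coe_mul, Submonoid.smul_def, smul_add, mul_smul]

theorem sec_zero {i k : ℕ} (h : (i : ℤ) = k + n) : sec hg (ℳ := ℳ) (zero_mem (ℳ i)) h = 0 := by
  refine GrModLib6.sec_ext fun x => ?_
  rw [GrModLib6.val_zero, sec, GrModLib6.val_fracSec, LocalizedModule.zero_mk]

open scoped Classical in
theorem exists_eq_sec [DirectSum.Decomposition ℳ] (t : Γ(GrMod.tilde 𝒜 ℳ n, Proj.basicOpen 𝒜 g)) :
    ∃ (k i : ℕ) (m : M) (hm : m ∈ ℳ i) (h : (i : ℤ) = k + n), t = sec hg hm h := by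
  obtain ⟨k, i, m, hm, hi, hval⟩ := GrModLib6.exists_eq_frac Nat.one_pos hg t
  refine ⟨k, i, m, hm, by simpa using hi, GrModLib6.sec_ext fun x => ?_⟩
  rw [hval x, sec, GrModLib6.val_fracSec]

theorem exists_pow_smul_of_sec_eq_zero [DirectSum.Decomposition ℳ] {i k : ℕ} {m : M} (hm : m ∈ ℳ i)
    (h : (i : ℤ) = k + n) (h0 : sec hg hm h = 0) : ∃ l : ℕ, g ^ l • m = 0 := by
  refine GrModLib6.exists_pow_smul_eq_zero 𝒜 ℳ Nat.one_pos hg hm fun x hx => ?_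
  refine ⟨⟨g ^ k, GrModLib6.pow_nin (⟨x, hx⟩ : Proj.basicOpen 𝒜 g) k⟩, ?_⟩
  have e := congrArg (fun t => GrModLib6.val t (⟨x, hx⟩ : Proj.basicOpen 𝒜 g)) h0
  rw [sec, GrModLib6.val_fracSec, GrModLib6.val_zero] at e
  exact e

end GrPullLib
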